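import Groth.Agent.L05.Minimal.Exactness
import Groth.Agent.L28.HomElt

/-!
# The acyclicity lemma for finite free cochain complexes with homology of finite length
-/

set_option autoImplicit false
set_option linter.style.haveILetI false
universe u

open CategoryTheory IsLocalRing

namespace Groth.L05.Minimal

open Groth.L05.Frob

theorem prev_eq_sub_one (i : ℕ) : (ComplexShape.up ℕ).prev i = i - 1 := by
  cases i with
  | zero => simp
  | succ i => exact (ComplexShape.up ℕ).prev_eq' rfl

theorem isZero_homology_of_lt_depth {A : Type u} [CommRing A] [IsLocalRing A] [IsNoetherianRing A] {d : ℕ}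
    (hd : LocCoh.depth A A = d) (K : CochainComplex (ModuleCat.{u} A) ℕ) (N : ℕ)
    (hbd : ∀ i, N < i → Limits.IsZero (K.X i)) (hfree : ∀ i, Module.Free A (K.X i) ∧ Module.Finite A (K.X i))
    (hfl : ∀ i, IsFiniteLength A (K.homology i)) (i : ℕ) (hi : i < d) : Limits.IsZero (K.homology i) := by
  by_cases hiN : N < i
  · haveI := ModuleCat.subsingleton_of_isZero (hbd i hiN)
    exact (Groth.L28.HomElt.isZero_homology_iff (j := i) rfl rfl).mpr
      fun x _ => ⟨0, Subsingleton.elim _ _⟩
  classical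
  let S : ∀ j, Submodule A (K.X (N - j)) := fun j => if j ≤ N then ⊤ else ⊥
  have hfreeS : ∀ j, Module.Free A (S j) ∧ Module.Finite A (S j) := fun j => by
    haveI := (hfree (N - j)).1
    haveI := (hfree (N - j)).2
    by_cases h : j ≤ N
    · rw [show S j = ⊤ from if_pos h]
      exact ⟨Module.Free.of_equiv Submodule.topEquiv.symm, Module.Finite.equiv Submodule.topEquiv.symm⟩
    · rw [show S j = ⊥ from if_neg h]
      exact ⟨Module.Free.of_subsingleton A _, inferInstance⟩
  haveI := fun j => (hfreeS j).1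
  haveI := fun j => (hfreeS j).2
  have hsub : ∀ j, N < j → Subsingleton (S j) := fun j hj => by
    rw [show S j = ⊥ from if_neg (not_le.mpr hj)]
    infer_instance
  have hmem : ∀ j (x : K.X (N - j)), j ≤ N → x ∈ S j := fun j x h => by simp [S, h]
  let dG : ∀ j, S (j + 1) →ₗ[A] S j := fun j =>
    LinearMap.codRestrict (S j) ((K.d (N - (j + 1)) (N - j)).hom.comp (S (j + 1)).subtype) fun x => by
      by_cases h : j ≤ N
      · exact hmem j _ h
      · haveI := hsub (j + 1) (by omega)
        rw [Subsingleton.elim x 0, map_zero]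
        exact zero_mem _
  have hdd : ∀ j (x : S (j + 1 + 1)), dG j (dG (j + 1) x) = 0 := fun j x =>
    Subtype.ext (congrArg (fun g => g.hom x.1) (K.d_comp_d (N - (j + 1 + 1)) (N - (j + 1)) (N - j)))
  have hd0 : ∀ l, l = 0 → K.d (l - 1) l = 0 := fun l h => K.shape _ _ (by subst h; simp)
  have hkill : ∀ (a : A) (l : ℕ), (∀ m : K.homology l, a • m = 0) → ∀ x : K.X l,
      (K.d l (l + 1)).hom x = 0 → ∃ w : K.X (l - 1), (K.d (l - 1) l).hom w = a • x := by
    intro a l ha x hx
    obtain ⟨z, rfl⟩ := Groth.L28.HomElt.exists_cycle ((ComplexShape.up ℕ).next_eq' rfl) x hx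
    obtain ⟨w, hw⟩ := (Groth.L28.HomElt.π_eq_zero_iff (prev_eq_sub_one l) (a • z)).mp (by rw [map_smul, ha])
    exact ⟨w, hw.trans (map_smul _ a z)⟩
  have hnull : maximalIdeal A ≤ (nullIdeal (G := fun j => S j) dG).radical := by
    intro a ha
    choose M hM using fun l => exists_pow_smul_eq_zero (hfl l) ha
    let T := ∑ l ∈ Finset.range (N + 1), M l
    have hT : ∀ l ≤ N, ∀ m : K.homology l, a ^ T • m = 0 := fun l hl m => by
      obtain ⟨r, hr⟩ := pow_dvd_pow a (Finset.single_le_sum (fun j _ => Nat.zero_le (M j))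
        (Finset.mem_range.mpr (Nat.lt_succ_of_le hl)))
      rw [show a ^ T = _ from hr, mul_comm, mul_smul, hM, smul_zero]
    refine ⟨T * (N + 1), ?_⟩
    rw [pow_mul]
    refine pow_mem_nullIdeal (G := fun j => S j) hdd hsub (fun x => ?_) fun j x hx => ?_
    · have hx0 : (K.d N (N + 1)).hom x.1 = 0 := by
        rw [(hbd (N + 1) (Nat.lt_succ_self N)).eq_of_tgt (K.d N (N + 1)) 0]; rfl
      obtain ⟨w, hw⟩ := hkill _ N (hT N le_rfl) x.1 hx0
      by_cases hN : 1 ≤ N
      · exact ⟨⟨w, hmem 1 w hN⟩, Subtype.ext hw⟩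
      · refine ⟨0, Subtype.ext ?_⟩
        rw [map_zero]
        rw [hd0 N (by omega)] at hw
        exact hw
    · by_cases hj : j + 1 ≤ N
      · have hx1 : (K.d (N - (j + 1)) (N - (j + 1) + 1)).hom x.1 = 0 := by
          rw [show N - (j + 1) + 1 = N - j by omega]
          exact congrArg Subtype.val hx
        obtain ⟨w, hw⟩ := hkill _ _ (hT _ (Nat.sub_le _ _)) x.1 hx1
        by_cases hj2 : j + 2 ≤ N
        · exact ⟨⟨w, hmem (j + 2) w hj2⟩, Subtype.ext hw⟩
        · refine ⟨0, Subtype.ext ?_⟩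
          rw [map_zero]
          rw [hd0 (N - (j + 1)) (by omega)] at hw
          exact hw
      · haveI := hsub (j + 1) (by omega)
        rw [Subsingleton.elim x 0, smul_zero]
        exact zero_mem _
  have hex := exactAtPt_of_lt d A hd (fun j => S j) dG hdd hnull N hsub
  rw [Groth.L28.HomElt.isZero_homology_iff (prev_eq_sub_one i) ((ComplexShape.up ℕ).next_eq' (show i + 1 = i + 1 from rfl))]
  obtain ⟨j, hjN, rfl⟩ : ∃ j, j ≤ N ∧ i = N - j := ⟨N - i, Nat.sub_le _ _, by omega⟩
  intro x hx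
  by_cases hj0 : j = 0
  · subst hj0
    obtain ⟨y, hy⟩ := (hex 0 (by omega)).ge (Submodule.mem_top (x := (⟨x, hmem 0 x (Nat.zero_le _)⟩ : S 0)))
    exact ⟨y.1, congrArg Subtype.val hy⟩
  · obtain ⟨l, rfl⟩ : ∃ l, j = l + 1 := ⟨j - 1, by omega⟩
    have hx' : (⟨x, hmem (l + 1) x hjN⟩ : S (l + 1)) ∈ LinearMap.ker (dG l) := by
      refine LinearMap.mem_ker.mpr (Subtype.ext ?_)
      show (K.d (N - (l + 1)) (N - l)).hom x = 0
      rw [show N - l = N - (l + 1) + 1 by omega]
      exact hx
    obtain ⟨y, hy⟩ := hex (l + 1) (by omega) hx'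
    exact ⟨y.1, congrArg Subtype.val hy⟩

end Groth.L05.Minimal
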